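import Groth.Agent.Proj16.RelIntegral
import Groth.Agent.Proj16.RelExist
import Groth.Agent.HProj.Coords

/-!
# A projective morphism is H-projective over affine opens
-/

universe u

open CategoryTheory CategoryTheory.Limits AlgebraicGeometry TopologicalSpace Opposite MvPolynomial HomogeneousLocalization
open scoped HomogeneousIdeal

set_option backward.isDefEq.respectTransparency false
set_option backward.isDefEq.respectTransparency.types false
set_option linter.style.haveILetI false

noncomputable section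

namespace Groth.Agent.ProjLoc

open Groth.Agent

variable {S : Scheme.{u}} (𝒮 : RelProj.QCGrAlg S) {U : S.Opens} (hU : IsAffineOpen U) {m : ℕ}
  (t : Fin (m + 1) → 𝒮.presheaf.obj (op U)) (ht : ∀ k, t k ∈ 𝒮.deg U hU 1)

/-- Polynomials over the base evaluated at the `t k`. -/
def evalT : MvPolynomial (Fin (m + 1)) Γ(S, U) →+* 𝒮.presheaf.obj (op U) :=
  eval₂Hom (𝒮.str.app (op U)).hom t

/-- Generation in degree one by the `t k` and the constants. -/
def Gen : Prop :=
  Algebra.adjoin (𝒮.deg U hU 0) (Set.range t) = ⊤ ∧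
    ∀ x ∈ 𝒮.deg U hU 1, ∃ P ∈ CohB1.polyGrading m Γ(S, U) 1, evalT 𝒮 t P = x

include ht in
theorem exists_poly (hgen : Gen 𝒮 hU t) {n : ℕ} (hn : 0 < n) {x : 𝒮.presheaf.obj (op U)}
    (hx : x ∈ 𝒮.deg U hU n) : ∃ P ∈ CohB1.polyGrading m Γ(S, U) n, evalT 𝒮 t P = x := by
  classical
  refine Proj16.induction_on_monomials (𝒜 := 𝒮.deg U hU) (g := t) (d := fun _ => 1) ht hgen.1
    (P := fun y => ∃ P ∈ CohB1.polyGrading m Γ(S, U) n, evalT 𝒮 t P = y) ⟨0, zero_mem _, map_zero _⟩ ?_ ?_ hx
  · rintro y y' ⟨P, hP, rfl⟩ ⟨Q, hQ, rfl⟩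
    exact ⟨P + Q, add_mem hP hQ, map_add _ _ _⟩
  · intro c hc e he
    simp only [mul_one] at he
    obtain ⟨j, hj⟩ : ∃ j, 0 < e j := by
      by_contra! H
      have : ∑ j, e j = 0 := Finset.sum_eq_zero fun j _ => Nat.le_zero.1 (H j)
      omega
    obtain ⟨L, hL, hLx⟩ := hgen.2 (c * t j) (by simpa using SetLike.mul_mem_graded (A := 𝒮.deg U hU) hc (ht j))
    let e' := Function.update e j (e j - 1)
    have he' : ∀ i, e' i + (if i = j then 1 else 0) = e i := fun i => by
      by_cases h : i = j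
      · subst h; simp [e']; omega
      · simp [e', h]
    refine ⟨L * ∏ i, MvPolynomial.X i ^ e' i, ?_, ?_⟩
    · have h1 : ∏ i, (MvPolynomial.X i : MvPolynomial (Fin (m + 1)) Γ(S, U)) ^ e' i ∈ CohB1.polyGrading m Γ(S, U) (∑ i, e' i) := by
        have := SetLike.prod_pow_mem_graded (CohB1.polyGrading m Γ(S, U)) (fun _ => 1) (fun i => MvPolynomial.X i) e'
          fun i (_ : i ∈ Finset.univ) => ProjPt.X_mem i
        simpa using this
      have hs : 1 + ∑ i, e' i = n := by
        rw [← he]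
        simp_rw [← he', Finset.sum_add_distrib, Finset.sum_ite_eq', Finset.mem_univ, if_true]
        omega
      exact hs ▸ SetLike.mul_mem_graded hL h1
    · rw [map_mul, hLx, map_prod, mul_assoc]
      congr 1
      simp only [map_pow, evalT, eval₂Hom_X']
      conv_rhs => rw [Finset.prod_congr rfl fun i _ => by rw [← he' i, pow_add]]
      rw [Finset.prod_mul_distrib, Finset.prod_eq_single j (f := fun i => t i ^ (if i = j then 1 else 0))
        (fun i _ hi => by simp [hi]) (fun h => absurd (Finset.mem_univ j) h)]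
      simp [mul_comm]

/-- The graded map from polynomials over `ℤ`. -/
def toDeg : CohB1.polyGrading m (ULift.{u} ℤ) →+*ᵍ 𝒮.deg U hU :=
  { eval₂Hom (SegreX.z0 _) t with
    map_mem := fun {d} {a} ha => by
      show eval₂Hom (SegreX.z0 _) t a ∈ _
      rw [coe_eval₂Hom, MvPolynomial.eval₂_eq]
      refine sum_mem fun e he => ?_
      have h1 : ∏ i ∈ e.support, t i ^ e i ∈ 𝒮.deg U hU d := by
        have hw := (mem_homogeneousSubmodule _ _).1 ha (mem_support_iff.mp he)
        rw [Finsupp.weight_apply, Finsupp.sum] at hw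
        have := SetLike.prod_pow_mem_graded (𝒮.deg U hU) (fun _ => 1) t e fun i (_ : i ∈ e.support) => ht i
        rw [← hw]
        simpa using this
      have hz : SegreX.z0 (𝒮.presheaf.obj (op U)) = (𝒮.str.app (op U)).hom.comp (SegreX.z0 _) :=
        (SegreX.z0_eq _).symm
      rw [hz, RingHom.comp_apply]
      have := SetLike.mul_mem_graded (A := 𝒮.deg U hU) (𝒮.str_mem U hU (SegreX.z0 _ (a.coeff e))) h1
      rwa [zero_add] at this }

theorem toDeg_X (k : Fin (m + 1)) : toDeg 𝒮 hU t ht (MvPolynomial.X k) = t k := eval₂Hom_X' _ _ _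

theorem irrelevant_le_toDeg (hgen : Gen 𝒮 hU t) :
    (𝒮.deg U hU)₊ ≤ ((CohB1.polyGrading m (ULift.{u} ℤ))₊).map (toDeg 𝒮 hU t ht) := by
  rw [HomogeneousIdeal.irrelevant_le]
  intro n hn x hx
  obtain ⟨P, hP, rfl⟩ := exists_poly 𝒮 hU t ht hgen hn hx
  have h1 : P ∈ Ideal.span (Set.range (MvPolynomial.X (R := Γ(S, U)))) :=
    SegreX.irrelevant_le_span m Γ(S, U) (HomogeneousIdeal.mem_irrelevant_of_mem _ hn hP)
  have h2 := Ideal.mem_map_of_mem (evalT 𝒮 t) h1
  refine (Ideal.map_le_iff_le_comap.2 (Ideal.span_le.2 ?_)) h2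
  rintro _ ⟨k, rfl⟩
  show evalT 𝒮 t (MvPolynomial.X k) ∈ Ideal.map (toDeg 𝒮 hU t ht) _
  rw [show evalT 𝒮 t (MvPolynomial.X k) = toDeg 𝒮 hU t ht (MvPolynomial.X k) from
    (eval₂Hom_X' _ _ _).trans (toDeg_X 𝒮 hU t ht k).symm]
  exact Ideal.mem_map_of_mem _ (HomogeneousIdeal.mem_irrelevant_of_mem _ one_pos (ProjPt.X_mem k))

variable (hgen : Gen 𝒮 hU t)

/-- The embedding into projective space. -/
def emb : Proj (𝒮.deg U hU) ⟶ CohB1.ProjSpaceOver m U.toScheme :=
  pullback.lift (Proj.map (toDeg 𝒮 hU t ht) (irrelevant_le_toDeg 𝒮 hU t ht hgen)) (Proj16.toOpen 𝒮 U hU)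
    (specULiftZIsTerminal.hom_ext _ _)

theorem emb_toBase : emb 𝒮 hU t ht hgen ≫ CohB1.ProjSpaceOver.toBase m U.toScheme = Proj16.toOpen 𝒮 U hU :=
  pullback.lift_snd _ _ _

theorem isClosedImmersion_emb : IsClosedImmersion (emb 𝒮 hU t ht hgen) := by
  classical
  haveI : IsAffine U.toScheme := hU
  let g := toDeg 𝒮 hU t ht
  let pZ := CohB1.ProjSpace.toSpec m (ULift.{u} ℤ)
  let uU := specULiftZIsTerminal.from U.toScheme
  let q : CohB1.ProjSpaceOver m U.toScheme ⟶ SegreX.PZ.{u} m := pullback.fst pZ uU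
  refine IsZariskiLocalAtTarget.of_iSup_eq_top (fun k => q ⁻¹ᵁ Proj.basicOpen (CohB1.polyGrading m (ULift.{u} ℤ))
    (MvPolynomial.X k)) ?_ fun k => ?_
  · rw [← Scheme.Hom.preimage_iSup, Proj.iSup_basicOpen_eq_top _ _ (SegreX.irrelevant_le_span m _)]
    rfl
  let 𝒜 := 𝒮.deg U hU
  let s := g (MvPolynomial.X k)
  have hs : s ∈ 𝒜 1 := g.2 (ProjPt.X_mem k)
  let R := CommRingCat.of (Away 𝒜 s)
  let c := SegreX.chart.{u} m k ≫ pZ
  let T := pullback c uU
  haveI : IsAffine T := inferInstanceAs (IsAffine (pullback _ _))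
  let M : T ⟶ CohB1.ProjSpaceOver m U.toScheme :=
    pullback.map c uU pZ uU (SegreX.chart m k) (𝟙 _) (𝟙 _) (by simp [c]) (by simp)
  haveI : IsOpenImmersion M := inferInstanceAs (IsOpenImmersion (pullback.map _ _ _ _ _ _ _ _ _))
  let a : Spec R ⟶ Proj 𝒜 := Proj.awayι 𝒜 s hs one_pos
  haveI : IsOpenImmersion a := inferInstanceAs (IsOpenImmersion (Proj.awayι _ _ _ _))
  let l : Spec R ⟶ T := pullback.lift (Spec.map (CommRingCat.ofHom (Away.map g (MvPolynomial.X k))))
    (a ≫ Proj16.toOpen 𝒮 U hU) (specULiftZIsTerminal.hom_ext _ _)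
  have hlM : l ≫ M = a ≫ emb 𝒮 hU t ht hgen := by
    refine pullback.hom_ext ?_ ?_
    · rw [Category.assoc, Category.assoc, pullback.lift_fst, pullback.lift_fst_assoc]
      erw [pullback.lift_fst]
      exact (Proj.awayι_comp_map g _ one_pos _ (ProjPt.X_mem k)).symm
    · rw [Category.assoc, Category.assoc, pullback.lift_snd, pullback.lift_snd_assoc, Category.comp_id]
      erw [pullback.lift_snd]
  haveI hl : IsClosedImmersion l := by
    refine IsClosedImmersion.of_surjective_of_isAffine l fun y => ?_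
    let Ev : MvPolynomial (Fin (m + 1)) Γ(S, U) →+* Away 𝒜 s :=
      eval₂Hom ((fromZeroRingHom 𝒜 (Submonoid.powers s)).comp (𝒮.strZero U hU).hom)
        (fun l => Away.mk 𝒜 hs 1 (t l) (by rw [one_smul]; exact ht l))
    let z : Away 𝒜 s := (Scheme.ΓSpecIso R).hom y
    have hz : z ∈ Ev.range := by
      obtain ⟨n, x, hx, hxz⟩ := Away.mk_surjective 𝒜 hs z
      rw [← hxz, Proj16.awayMk_succ]
      have hmem : s * x ∈ 𝒜 (n + 1) := by
        simpa [add_comm] using SetLike.mul_mem_graded (A := 𝒜) hs hx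
      obtain ⟨P, hP, hPx⟩ := exists_poly 𝒮 hU t ht hgen n.succ_pos hmem
      refine ⟨P, HomogeneousLocalization.val_injective _ ?_⟩
      let L := Localization.Away s
      let al : 𝒮.presheaf.obj (op U) →+* L := algebraMap _ L
      let inv : L := Localization.mk 1 ⟨s, Submonoid.mem_powers _⟩
      rw [← HomogeneousLocalization.algebraMap_apply (y := Ev P), map_eval₂Hom _ _ (algebraMap _ L) P]
      rw [show (algebraMap (Away 𝒜 s) L).comp ((fromZeroRingHom 𝒜 (Submonoid.powers s)).comp (𝒮.strZero U hU).hom) =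
        al.comp (𝒮.str.app (op U)).hom from ?_]
      · rw [ProjPt.eval₂Hom_scale (al.comp (𝒮.str.app (op U)).hom) (fun l => al (t l)) _ inv (fun l => ?_)
          ((mem_homogeneousSubmodule _ _).1 hP)]
        · rw [show eval₂Hom (al.comp (𝒮.str.app (op U)).hom) (fun l => al (t l)) = al.comp (evalT 𝒮 t) from
            (comp_eval₂Hom _ _ _).symm, RingHom.comp_apply, hPx, Away.val_mk, Localization.mk_pow]
          change _ * algebraMap _ L _ = _
          rw [← Localization.mk_one_eq_algebraMap, Localization.mk_mul, Localization.mk_eq_mk_iff,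
            Localization.r_iff_exists]
          exact ⟨1, by simp⟩
        · rw [HomogeneousLocalization.algebraMap_apply, Away.val_mk]
          show _ = inv * algebraMap _ L (t l)
          rw [← Localization.mk_one_eq_algebraMap, Localization.mk_mul, Localization.mk_eq_mk_iff,
            Localization.r_iff_exists]
          exact ⟨1, by simp⟩
      · refine RingHom.ext fun r => ?_
        change _ = algebraMap _ L ((𝒮.str.app (op U)).hom r)
        rw [← Localization.mk_one_eq_algebraMap]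
        rfl
    let Q : Subring (Away 𝒜 s) := ((l.appTop ≫ (Scheme.ΓSpecIso R).hom).hom).range
    suffices hQ : Ev.range ≤ Q by
      obtain ⟨x, hx⟩ := hQ hz
      exact ⟨x, (ConcreteCategory.bijective_of_isIso (Scheme.ΓSpecIso R).hom).1 hx⟩
    rintro _ ⟨P, rfl⟩
    induction P using MvPolynomial.induction_on with
    | C r =>
      refine ⟨(pullback.snd c uU).appTop (U.topIso.inv r), ?_⟩
      show ((Scheme.ΓSpecIso R).hom) (l.appTop ((pullback.snd c uU).appTop (U.topIso.inv r))) = _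
      rw [← CommRingCat.comp_apply _ l.appTop, ← Scheme.Hom.comp_appTop, pullback.lift_snd]
      simp only [Ev, eval₂Hom_C]
      have h2 : a ≫ Proj16.toOpen 𝒮 U hU = Spec.map (CommRingCat.ofHom ((fromZeroRingHom 𝒜 (Submonoid.powers s)).comp
          (𝒮.strZero U hU).hom)) ≫ hU.isoSpec.inv := by
        simp only [a, Proj16.toOpen]
        erw [Proj.awayι_toSpecZero_assoc]
        rw [CommRingCat.ofHom_comp, CommRingCat.ofHom_hom, Spec.map_comp, Category.assoc]
      rw [h2, Scheme.Hom.comp_appTop, CommRingCat.comp_apply]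
      have h3 : hU.isoSpec.inv.appTop (U.topIso.inv r) = (Scheme.ΓSpecIso Γ(S, U)).inv r := by
        rw [← CommRingCat.comp_apply]
        congr 2
        simp [IsAffineOpen.isoSpec_inv_appTop]
        rw [← Scheme.Hom.comp_appTop, ← Spec.map_comp, ← Functor.map_comp]
        simp
      erw [h3]
      erw [← CommRingCat.comp_apply, Scheme.ΓSpecIso_naturality, CommRingCat.comp_apply, Iso.inv_hom_id_apply]
      rfl
    | add P Q' hP hQ =>
      rw [map_add]; exact add_mem hP hQ
    | mul_X P j hP =>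
      rw [map_mul]
      refine mul_mem hP ⟨(pullback.fst c uU).appTop ((Scheme.ΓSpecIso (SegreX.chartRing.{u} m k)).inv (ProjPt.crd k j)), ?_⟩
      show ((Scheme.ΓSpecIso R).hom) (l.appTop ((pullback.fst c uU).appTop _)) = _
      rw [← CommRingCat.comp_apply _ l.appTop, ← Scheme.Hom.comp_appTop, pullback.lift_fst, ← CommRingCat.comp_apply,
        Scheme.ΓSpecIso_naturality, CommRingCat.comp_apply, Iso.inv_hom_id_apply]
      simp only [Ev, eval₂Hom_X']
      show Away.map g (MvPolynomial.X k) (ProjPt.crd k j) = _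
      rw [ProjPt.crd, Away.map_mk]
      apply HomogeneousLocalization.val_injective
      rw [Away.val_mk, Away.val_mk]
      congr 1
      exact toDeg_X 𝒮 hU t ht j
  have hrange : (q ⁻¹ᵁ Proj.basicOpen (CohB1.polyGrading m (ULift.{u} ℤ)) (MvPolynomial.X k)) = M.opensRange := by
    refine SetLike.coe_injective ?_
    rw [Scheme.Hom.coe_opensRange]
    erw [Scheme.Pullback.range_map, SegreX.range_chart]
    exact Set.Subset.antisymm (fun x hx => ⟨hx, ⟨pullback.snd pZ uU x, by simp⟩⟩) fun x hx => hx.1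
  have hsq : IsPullback l a M (emb 𝒮 hU t ht hgen) := by
    refine IsOpenImmersion.isPullback _ _ _ _ hlM.symm ?_
    rw [Proj.opensRange_awayι, ← hrange, ← Scheme.Hom.comp_preimage]
    show (emb 𝒮 hU t ht hgen ≫ pullback.fst _ _) ⁻¹ᵁ _ = _
    rw [emb, pullback.lift_fst, Proj.map_preimage_basicOpen]
  rw [hrange]
  exact (MorphismProperty.arrow_mk_iso_iff @IsClosedImmersion (morphismRestrictOpensRange _ M)).2
    (MorphismProperty.of_isPullback (P := @IsClosedImmersion) (f' := pullback.snd (emb 𝒮 hU t ht hgen) M)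
      (f := emb 𝒮 hU t ht hgen) (g := M) (g' := pullback.fst (emb 𝒮 hU t ht hgen) M)
      |> fun _ => by
        rw [← hsq.flip.isoPullback_inv_snd]
        exact (MorphismProperty.cancel_left_of_respectsIso @IsClosedImmersion _ _).2 hl)

end Groth.Agent.ProjLoc

namespace Groth.Agent.ProjLoc

open Groth.Agent

/-- A relative `Proj` of an algebra generated by a finite type degree one part is H-projective over affine opens. -/
theorem isHProjective_restrict {S P : Scheme.{u}} {𝒮 : RelProj.QCGrAlg S} {p : P ⟶ S}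
    {chart : ∀ (U : S.Opens) (hU : IsAffineOpen U), ((p ⁻¹ᵁ U : P.Opens) : Scheme.{u}) ≅ Proj (𝒮.deg U hU)}
    (hP : RelProj.IsRelProj 𝒮 p chart) (hgen : 𝒮.IsGenDegOne) (hft : 𝒮.IsFTDeg 1)
    {U : S.Opens} (hU : IsAffineOpen U) : RelProj.IsHProjective (p ∣_ U) := by
  classical
  obtain ⟨T, hT1, hT⟩ := hft U hU
  let t : Fin (T.card + 1) → 𝒮.presheaf.obj (op U) := Fin.cons 0 fun j => (T.equivFin.symm j).1
  have ht : ∀ k, t k ∈ 𝒮.deg U hU 1 := Fin.cases (zero_mem _) fun j => by simpa [t] using hT1 (T.equivFin.symm j).2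
  have hgen' : Gen 𝒮 hU t := by
    refine ⟨?_, fun x hx => ?_⟩
    · refine top_le_iff.1 ((Proj16.adjoin_degOne_eq_top hgen U hU hT).symm.le.trans (Algebra.adjoin_mono ?_))
      intro x hx
      exact ⟨(T.equivFin ⟨x, hx⟩).succ, by simp [t]⟩
    · obtain ⟨c, rfl⟩ := hT x hx
      refine ⟨∑ j, MvPolynomial.C (c (T.equivFin.symm j).1) * MvPolynomial.X j.succ, sum_mem fun j _ => ?_, ?_⟩
      · rw [← MvPolynomial.smul_eq_C_mul]
        exact Submodule.smul_mem _ _ (ProjPt.X_mem _)
      · rw [map_sum]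
        simp only [evalT, map_mul, eval₂Hom_C, eval₂Hom_X', t, Fin.cons_succ]
        rw [← Finset.sum_coe_sort T]
        exact Equiv.sum_comp T.equivFin.symm (fun u : T => (𝒮.str.app (op U)).hom (c u.1) * u.1)
  haveI := isClosedImmersion_emb 𝒮 hU t ht hgen'
  refine ⟨T.card, (chart U hU).hom ≫ emb 𝒮 hU t ht hgen', inferInstance, ?_⟩
  rw [Category.assoc, emb_toBase, Proj16.morphismRestrict_eq hP U hU]
  rfl

theorem exists_isHProjective_restrict {X S : Scheme.{u}} {f : X ⟶ S} (hf : RelProj.IsProjective f) {U : S.Opens}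
    (hU : IsAffineOpen U) : RelProj.IsHProjective (f ∣_ U) := by
  obtain ⟨𝒮, P, p, chart, e, hgen, hft, hP, he⟩ := hf
  obtain ⟨n, i, hi, hip⟩ := isHProjective_restrict hP hgen hft hU
  have hpre : f ⁻¹ᵁ U = e.hom ⁻¹ᵁ (p ⁻¹ᵁ U) := by rw [← he]; rfl
  let e' := (X.isoOfEq hpre).hom ≫ (e.hom ∣_ (p ⁻¹ᵁ U))
  refine ⟨n, e' ≫ i, inferInstance, ?_⟩
  rw [Category.assoc, hip, ← cancel_mono U.ι, Category.assoc, morphismRestrict_ι, morphismRestrict_ι,
    Category.assoc, morphismRestrict_ι_assoc, he, Scheme.isoOfEq_hom_ι_assoc]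

theorem isProper_of_isProjective {X S : Scheme.{u}} {f : X ⟶ S} (hf : RelProj.IsProjective f) : IsProper f := by
  refine IsZariskiLocalAtTarget.of_iSup_eq_top (P := @IsProper) (fun U : S.affineOpens => U.1)
    (iSup_affineOpens_eq_top S) fun U => ?_
  obtain ⟨n, i, hi, hip⟩ := exists_isHProjective_restrict hf U.2
  haveI := TwistFlat.isProper_toBase n (Y := U.1.toScheme)
  rw [← hip]
  infer_instance

end Groth.Agent.ProjLoc
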