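import Groth.Agent.ProjLoc.Loc
import Groth.Agent.S1616
import Mathlib.AlgebraicGeometry.ZariskisMainTheorem

/-!
# Composition of H-projective morphisms
-/

universe u

open CategoryTheory CategoryTheory.Limits AlgebraicGeometry

set_option backward.isDefEq.respectTransparency false
set_option backward.isDefEq.respectTransparency.types false
set_option linter.style.haveILetI false

noncomputable section

namespace Groth.Agent.ProjLoc

variable {X Y S : Scheme.{u}}

theorem isHProjective_comp (f : X ⟶ Y) (g : Y ⟶ S) (hf : RelProj.IsHProjective f) (hg : RelProj.IsHProjective g) :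
    RelProj.IsHProjective (f ≫ g) := by
  obtain ⟨a, i, hi, hif⟩ := hf
  obtain ⟨b, k, hk, hkg⟩ := hg
  obtain ⟨φ, hφ, hφq⟩ := S1616.result S a b
  haveI := hi
  haveI := hk
  haveI := TwistFlat.isProper_toBase a (Y := Y)
  haveI := TwistFlat.isProper_toBase a (Y := S)
  haveI := TwistFlat.isProper_toBase b (Y := S)
  let tA := CohB1.ProjSpaceOver.toBase a Y
  let ta := CohB1.ProjSpaceOver.toBase a S
  let tb := CohB1.ProjSpaceOver.toBase b S
  let m : CohB1.ProjSpaceOver a Y ⟶ CohB1.ProjSpaceOver a S :=
    pullback.lift (pullback.fst _ _) (pullback.snd _ _ ≫ g) (specULiftZIsTerminal.hom_ext _ _)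
  have hm : m ≫ ta = tA ≫ g := pullback.lift_snd _ _ _
  let j : CohB1.ProjSpaceOver a Y ⟶ pullback ta tb := pullback.lift m (tA ≫ k) (by rw [hm, Category.assoc, hkg])
  haveI : IsProper (tA ≫ k) := MorphismProperty.comp_mem @IsProper _ _ inferInstance inferInstance
  haveI : IsProper (j ≫ pullback.snd ta tb) := by rw [pullback.lift_snd]; infer_instance
  haveI : Mono j := ⟨fun {T} u v h => by
    have h1 := h =≫ pullback.fst ta tb
    have h2 := h =≫ pullback.snd ta tb
    simp only [Category.assoc, j, pullback.lift_fst, pullback.lift_snd] at h1 h2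
    rw [← Category.assoc, ← Category.assoc, cancel_mono k] at h2
    refine pullback.hom_ext ?_ h2
    have h3 := h1 =≫ pullback.fst _ _
    simp only [Category.assoc, m] at h3
    erw [pullback.lift_fst] at h3
    exact h3⟩
  haveI : IsClosedImmersion j := (IsClosedImmersion.iff_isProper_and_mono _).2
    ⟨IsProper.of_comp j (pullback.snd ta tb), inferInstance⟩
  haveI := hφ
  refine ⟨_, i ≫ j ≫ φ, inferInstance, ?_⟩
  rw [Category.assoc, Category.assoc, hφq, pullback.lift_fst_assoc, hm, ← Category.assoc, hif]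

theorem isHProjective_iff (f : X ⟶ S) :
    RelProj.IsHProjective f ↔ RelProj.IsHQuasiProjective f ∧ IsProper f := by
  refine ⟨?_, ?_⟩
  · rintro ⟨n, i, hi, hif⟩
    haveI := hi
    haveI := TwistFlat.isProper_toBase n (Y := S)
    exact ⟨⟨n, i, inferInstance, inferInstance, hif⟩, hif ▸ inferInstance⟩
  · rintro ⟨⟨n, i, hi, hq, hif⟩, hp⟩
    haveI := hi
    haveI := TwistFlat.isProper_toBase n (Y := S)
    haveI : IsProper (i ≫ CohB1.ProjSpaceOver.toBase n S) := hif ▸ hp
    exact ⟨n, i, (IsClosedImmersion.iff_isProper_and_mono _).2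
      ⟨IsProper.of_comp i (CohB1.ProjSpaceOver.toBase n S), inferInstance⟩, hif⟩

end Groth.Agent.ProjLoc
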