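import Groth.Agent.ProjLoc.Basic
import Groth.Agent.HProj.ProjChart

/-!
# Locally projective morphisms
-/

universe u

open CategoryTheory CategoryTheory.Limits AlgebraicGeometry TopologicalSpace

set_option backward.isDefEq.respectTransparency false
set_option backward.isDefEq.respectTransparency.types false
set_option linter.style.haveILetI false

noncomputable section

namespace Groth.Agent.ProjLoc

variable {X S X' S' : Scheme.{u}}

theorem isHProjective_of_isPullback {f : X ⟶ S} {g : S' ⟶ S} {f' : X' ⟶ S'} {g' : X' ⟶ X}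
    (h : IsPullback g' f' f g) (hf : RelProj.IsHProjective f) : RelProj.IsHProjective f' := by
  obtain ⟨n, i, hi, hif⟩ := hf
  let pS := CohB1.ProjSpaceOver.toBase n S
  let pS' := CohB1.ProjSpaceOver.toBase n S'
  let m : CohB1.ProjSpaceOver n S' ⟶ CohB1.ProjSpaceOver n S :=
    pullback.lift (pullback.fst _ _) (pullback.snd _ _ ≫ g) (specULiftZIsTerminal.hom_ext _ _)
  have hm : IsPullback m pS' pS g := by
    refine IsPullback.of_right (h₁₂ := pullback.fst _ _) (v₁₃ := CohB1.ProjSpace.toSpec n (ULift.{u} ℤ))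
      (h₂₂ := specULiftZIsTerminal.from S) ?_ (pullback.lift_snd _ _ _) (IsPullback.of_hasPullback _ _)
    erw [pullback.lift_fst]
    rw [specULiftZIsTerminal.hom_ext (g ≫ specULiftZIsTerminal.from S) (specULiftZIsTerminal.from S')]
    exact IsPullback.of_hasPullback _ _
  let i' : X' ⟶ CohB1.ProjSpaceOver n S' := hm.lift (g' ≫ i) f' (by rw [Category.assoc, hif, h.w])
  have h1 : i' ≫ m = g' ≫ i := hm.lift_fst _ _ _
  have h2 : i' ≫ pS' = f' := hm.lift_snd _ _ _
  have hsq : IsPullback g' i' i m := by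
    refine IsPullback.of_bot ?_ h1.symm hm
    rw [h2, hif]
    exact h
  haveI := hi
  haveI : IsClosedImmersion i' := MorphismProperty.of_isPullback hsq ‹IsClosedImmersion i›
  exact ⟨n, i', inferInstance, h2⟩

theorem isPullback_restrict_snd (f : X ⟶ S) (g : S' ⟶ S) (U : S.Opens) :
    ∃ a, IsPullback a (pullback.snd f g ∣_ (g ⁻¹ᵁ U)) (f ∣_ U) (g ∣_ U) := by
  have h := (isPullback_morphismRestrict (pullback.snd f g) (g ⁻¹ᵁ U)).flip.paste_horiz (IsPullback.of_hasPullback f g)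
  rw [← morphismRestrict_ι g U] at h
  let hr := (isPullback_morphismRestrict f U).flip
  refine ⟨hr.lift ((pullback.snd f g ⁻¹ᵁ (g ⁻¹ᵁ U)).ι ≫ pullback.fst f g)
    ((pullback.snd f g ∣_ (g ⁻¹ᵁ U)) ≫ (g ∣_ U)) (by rw [Category.assoc]; exact h.w), ?_⟩
  refine IsPullback.of_right ?_ (hr.lift_snd _ _ _) hr
  rw [hr.lift_fst]
  exact h

theorem isLocallyProjective_iff (f : X ⟶ S) :
    RelProj.IsLocallyProjective f ↔ ∀ s : S, ∃ U : S.Opens, s ∈ U ∧ RelProj.IsHProjective (f ∣_ U) := by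
  refine ⟨fun h s => ?_, fun h s => ?_⟩
  · obtain ⟨U, hs, hU⟩ := h s
    obtain ⟨_, ⟨V, hV, rfl⟩, hsV, hVU⟩ := S.isBasis_affineOpens.exists_subset_of_mem_open
      (show s ∈ (U : Set S) from hs) U.2
    have hE : U.ι ''ᵁ (U.ι ⁻¹ᵁ V) = V := by
      rw [Scheme.Hom.image_preimage_eq_opensRange_inf, Scheme.Opens.opensRange_ι]
      exact inf_eq_right.2 hVU
    have hV' : IsAffineOpen (U.ι ⁻¹ᵁ V) :=
      (U.ι.isAffineOpen_iff_of_isOpenImmersion).1 (hE.symm ▸ hV)
    refine ⟨V, hsV, ?_⟩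
    have key := exists_isHProjective_restrict hU hV'
    let e := morphismRestrictRestrict f U (U.ι ⁻¹ᵁ V) ≪≫ morphismRestrictEq f hE
    exact isHProjective_of_isPullback (IsPullback.of_horiz_isIso ⟨(Arrow.w e.inv)⟩) key
  · obtain ⟨U, hs, hU⟩ := h s
    exact ⟨U, hs, HProj.isProjective_of_isHProjective hU⟩

theorem isLocallyProjective_baseChange (f : X ⟶ S) (hf : RelProj.IsLocallyProjective f) (g : S' ⟶ S) :
    RelProj.IsLocallyProjective (pullback.snd f g) := by
  rw [isLocallyProjective_iff] at hf ⊢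
  intro s
  obtain ⟨U, hs, hU⟩ := hf (g s)
  obtain ⟨a, ha⟩ := isPullback_restrict_snd f g U
  exact ⟨g ⁻¹ᵁ U, hs, isHProjective_of_isPullback ha hU⟩

end Groth.Agent.ProjLoc
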